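import Groth.Agent.OneMotIso.Exact
import Groth.Agent.Chev.TorusExt
import Groth.Agent.Chev.AntiAff
import Groth.Agent.Takeuchi.Quot
import Groth.Agent.GrpBasic.Cartier
import Groth.Agent.GrpField.SchImgExists
import Groth.Agent.AdjRep.KerObj
import Groth.Agent.AVDeg.FiniteKer
import Groth.Agent.MaxAb.Main
import Mathlib.AlgebraicGeometry.AlgClosed.Basic

/-!
# Torsion points generate semi-abelian varieties in characteristic zero
-/

set_option autoImplicit false
set_option backward.isDefEq.respectTransparency false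
set_option backward.isDefEq.respectTransparency.types false
set_option linter.style.haveILetI false
universe u

open CategoryTheory CategoryTheory.Limits MonoidalCategory CartesianMonoidalCategory MonObj AlgebraicGeometry
open TopologicalSpace
open scoped CategoryTheory.Obj
open Groth.Agent.GrpField.RatClosure (pt)

noncomputable section

namespace Groth.Agent.OneMotIso

open AVDeg (one')

variable {k : Type u} [Field k] [IsAlgClosed k]

theorem exists_point {X : Over (Spec (CommRingCat.of k))} [LocallyOfFiniteType X.hom] {x : X.left}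
    (hx : x ∈ closedPoints X.left) : ∃ a : one' k ⟶ X, pt a = x := by
  let p := (pointEquivClosedPoint X.hom).symm ⟨x, hx⟩
  exact ⟨Over.homMk p.1 p.2, congrArg Subtype.val ((pointEquivClosedPoint X.hom).apply_symm_apply ⟨x, hx⟩)⟩

theorem point_comp_hom {X : Over (Spec (CommRingCat.of k))} (a : one' k ⟶ X) : a.left ≫ X.hom = 𝟙 _ :=
  Over.w a

theorem isClosed_pt {X : Over (Spec (CommRingCat.of k))} [LocallyOfFiniteType X.hom] (a : one' k ⟶ X) :
    IsClosed ({pt a} : Set X.left) :=
  (pointEquivClosedPoint X.hom ⟨a.left, point_comp_hom a⟩).2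

theorem pt_inj {X : Over (Spec (CommRingCat.of k))} [LocallyOfFiniteType X.hom] {a b : one' k ⟶ X}
    (h : pt a = pt b) : a = b :=
  Over.OverMorphism.ext (ext_of_apply_closedPoint_eq X.hom (point_comp_hom a) (point_comp_hom b) h)

theorem exists_point_lift {X Y : Over (Spec (CommRingCat.of k))} [LocallyOfFiniteType X.hom]
    [LocallyOfFiniteType Y.hom] (f : X ⟶ Y) [Surjective f.left] (y : one' k ⟶ Y) :
    ∃ x : one' k ⟶ X, x ≫ f = y := by
  haveI : JacobsonSpace X.left := LocallyOfFiniteType.jacobsonSpace X.hom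
  obtain ⟨x₀, hx₀⟩ := f.left.surjective (pt y)
  obtain ⟨x, hx, hxc⟩ := nonempty_inter_closedPoints (Z := f.left ⁻¹' {pt y}) ⟨x₀, hx₀⟩
    ((isClosed_pt y).preimage f.left.continuous).isLocallyClosed
  obtain ⟨a, rfl⟩ := exists_point hxc
  exact ⟨a, pt_inj hx⟩

/-- Maps from a reduced scheme that agree on rational points are equal. -/
theorem hom_ext_points {X Y : Over (Spec (CommRingCat.of k))} [IsReduced X.left] [LocallyOfFiniteType X.hom]
    [LocallyOfFiniteType Y.hom] [IsSeparated Y.hom] {f g : X ⟶ Y}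
    (h : ∀ x : one' k ⟶ X, x ≫ f = x ≫ g) : f = g := by
  haveI : LocallyOfFiniteType (f.left ≫ Y.hom) := by rw [Over.w]; infer_instance
  refine Over.OverMorphism.ext (ext_of_apply_eq Y.hom Set.univ isClosed_univ.isLocallyClosed dense_univ
    (fun x _ hx => ?_) (by rw [Over.w, Over.w]))
  obtain ⟨a, rfl⟩ := exists_point (X := X) hx
  exact congrArg pt (h a)

/-- A closed subscheme of a reduced scheme containing all rational points is everything. -/
theorem isIso_of_points {I X : Over (Spec (CommRingCat.of k))} [IsReduced X.left] [LocallyOfFiniteType X.hom]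
    (j : I ⟶ X) [IsClosedImmersion j.left] (h : ∀ x : one' k ⟶ X, ∃ a : one' k ⟶ I, a ≫ j = x) : IsIso j := by
  haveI : JacobsonSpace X.left := LocallyOfFiniteType.jacobsonSpace X.hom
  haveI : Surjective j.left := by
    refine ⟨Set.range_eq_univ.1 ?_⟩
    by_contra hne
    obtain ⟨x, hx, hxc⟩ := nonempty_inter_closedPoints (Z := (Set.range j.left)ᶜ)
      (Set.nonempty_compl.2 hne) j.left.isClosedEmbedding.isClosed_range.isOpen_compl.isLocallyClosed
    obtain ⟨a, rfl⟩ := exists_point (X := X) hxc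
    obtain ⟨b, rfl⟩ := h a
    exact hx ⟨pt b, rfl⟩
  haveI : IsIso j.left := isIso_of_isClosedImmersion_of_surjective j.left
  haveI : IsIso ((Over.forget _).map j) := ‹IsIso j.left›
  exact isIso_of_reflects_iso _ (Over.forget _)

variable [CharZero k]

theorem isReduced_grp (G : Over (Spec (CommRingCat.of k))) [GrpObj G] [LocallyOfFiniteType G.hom] :
    IsReduced G.left := by
  haveI : GrpObj (Over.mk G.hom) := inferInstanceAs (GrpObj G)
  haveI := Cartier.smooth_of_charZero G.hom
  exact Chev.isReduced_of_smooth' G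

/-- A closed subgroup of a torus containing the torsion points is everything. -/
theorem isIso_of_torsion_torus {T P : Over (Spec (CommRingCat.of k))} [GrpObj T] [IsCommMonObj T] [GrpObj P]
    (hT : Red.IsTorus T) (i : P ⟶ T) [IsMonHom i] [IsClosedImmersion i.left]
    (h : ∀ t : one' k ⟶ T, (∃ n : ℕ, 0 < n ∧ t ^ n = 1) → ∃ a : one' k ⟶ P, a ≫ i = t) : IsIso i := by
  haveI := Chev.isAffine_of_isTorus hT
  haveI := Chev.smooth_of_isTorus hT
  haveI : IsReduced T.left := Chev.isReduced_of_smooth' T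
  haveI : IsSeparated T.hom := GrpField.isSeparated_hom T
  haveI : QuasiCompact T.hom := inferInstance
  have hn : AlgGrp.IsNormalHom i := fun X g n => ⟨n, by rw [mul_comm g, mul_inv_cancel_right]⟩
  obtain ⟨Q, hQ, q, hqm, hQa, hQl, hqf, hqs, hker⟩ := Takeuchi.exists_affine_quotient T P i hn
  haveI := hqm; haveI := hQa; haveI := hQl; haveI := hqf; haveI := hqs
  haveI : IsSeparated Q.hom := GrpField.isSeparated_hom Q
  haveI : GrpObj (Over.mk Q.hom) := inferInstanceAs (GrpObj Q)
  haveI : Smooth Q.hom := Cartier.smooth_of_charZero Q.hom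
  haveI : QuasiCompact Q.hom := inferInstance
  have hQT : Red.IsTorus Q := Chev.isTorus_of_surjective hT q
  have hiq : i ≫ q = 1 := by rw [hker.w, Hom.one_def]
  have hq1 : q = 1 := by
    refine Chev.eq_one_of_divisible' hT hQT q fun m => ⟨m + 1, m.lt_succ_self, ?_⟩
    let n := m + 1
    haveI := Chev.surjective_pow_torus hT (show 0 < n from m.succ_pos)
    haveI := Chev.isMonHom_pow T n
    haveI : QuasiCompact (𝟙 T ^ n).left := by
      haveI : QuasiCompact ((𝟙 T ^ n).left ≫ T.hom) := by rw [Over.w]; infer_instance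
      exact QuasiCompact.of_comp _ T.hom
    haveI : Flat (𝟙 T ^ n).left := GrpField.flat_of_surjective_reduced (𝟙 T ^ n)
    haveI : LocallyOfFinitePresentation (𝟙 T ^ n).left := by
      haveI : LocallyOfFiniteType ((𝟙 T ^ n).left ≫ T.hom) := by rw [Over.w]; infer_instance
      haveI : LocallyOfFiniteType (𝟙 T ^ n).left := locallyOfFiniteType_of_comp _ T.hom
      haveI : IsLocallyNoetherian T.left := LocallyOfFiniteType.isLocallyNoetherian T.hom
      exact LocallyOfFinitePresentation.iff_locallyOfFiniteType.2 inferInstance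
    obtain ⟨N, hN, a, ham, hac, -, hNk⟩ := AdjRep.exists_kernel (𝟙 T ^ n)
    haveI := ham; haveI := hac
    haveI : LocallyOfFiniteType N.hom := by rw [← Over.w a]; infer_instance
    haveI := isReduced_grp N
    have han : a ^ n = 1 := by
      have h := hNk.w
      rw [MonObj.comp_pow, Category.comp_id] at h
      exact h.trans Hom.one_def.symm
    have haq : a ≫ q = 1 := hom_ext_points fun x => by
      obtain ⟨b, hb⟩ := h (x ≫ a) ⟨n, m.succ_pos, by rw [← MonObj.comp_pow, han, MonObj.comp_one]⟩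
      rw [← Category.assoc, ← hb, Category.assoc, hiq, MonObj.comp_one, MonObj.comp_one]
    obtain ⟨d, hd⟩ := AdjRep.exists_desc a (𝟙 T ^ n) hNk q haq
    haveI : IsMonHom ((𝟙 T ^ n) ≫ d) := by rw [hd]; infer_instance
    haveI := Chev.isMonHom_desc (𝟙 T ^ n) d
    exact ⟨d, inferInstance, by rw [← hd, MonObj.pow_comp, Category.id_comp]⟩
  haveI : Mono i := GrpField.SchImg.mono_of_isClosedImmersion i
  have hsec : ∃ s, s ≫ i = 𝟙 T := ⟨hker.lift (𝟙 T) (toUnit T) (by rw [hq1, MonObj.comp_one, Hom.one_def]),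
    hker.lift_fst _ _ _⟩
  obtain ⟨s, hs⟩ := hsec
  haveI : IsSplitEpi i := ⟨⟨⟨s, hs⟩⟩⟩
  exact isIso_of_mono_of_isSplitEpi i

variable {T G A : Over (Spec (CommRingCat.of k))} [GrpObj T] [IsCommMonObj T] [GrpObj G]
  [IsCommMonObj G] [GrpObj A] [IsCommMonObj A] {incl : T ⟶ G} {proj : G ⟶ A} [IsMonHom incl] [IsMonHom proj]

omit [CharZero k] in
theorem exists_root_torus (hT : Red.IsTorus T) {n : ℕ} (hn : 0 < n) (t : one' k ⟶ T) :
    ∃ s : one' k ⟶ T, s ^ n = t := by
  haveI := Chev.smooth_of_isTorus hT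
  haveI := Chev.surjective_pow_torus hT hn
  obtain ⟨s, hs⟩ := exists_point_lift (𝟙 T ^ n) t
  exact ⟨s, by rw [← hs, MonObj.comp_pow, Category.comp_id]⟩

/-- A closed subgroup of a semi-abelian variety containing the torsion points is everything. -/
theorem isIso_of_torsion (h : OneMot.IsSemiAbWith T G A incl proj) {I : Over (Spec (CommRingCat.of k))} [GrpObj I]
    (j : I ⟶ G) [IsMonHom j] [IsClosedImmersion j.left]
    (ht : ∀ g : one' k ⟶ G, (∃ n : ℕ, 0 < n ∧ g ^ n = 1) → ∃ a : one' k ⟶ I, a ≫ j = g) : IsIso j := by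
  obtain ⟨hx, hk, hc, hsj, hsm, hGs, hGq, hGc, hAc, hsa⟩ := saData h
  haveI := hc; haveI := hsj; haveI := hsm; haveI := hGs; haveI := hGq; haveI := hAc
  haveI := h.abelian.smooth
  haveI := h.abelian.proper
  haveI := Chev.smooth_of_isTorus h.torus
  haveI := Chev.isAffine_of_isTorus h.torus
  haveI : IsSeparated G.hom := GrpField.isSeparated_hom G
  haveI : IsSeparated T.hom := GrpField.isSeparated_hom T
  haveI : IsReduced G.left := Chev.isReduced_of_smooth' G
  haveI : LocallyOfFiniteType I.hom := by rw [← Over.w j]; infer_instance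
  haveI : QuasiCompact I.hom := by rw [← Over.w j]; infer_instance
  haveI : Mono incl := GrpField.SchImg.mono_of_isClosedImmersion incl
  -- the torus lies in `I`
  have hT : ∀ t : one' k ⟶ T, ∃ a : one' k ⟶ I, a ≫ j = t ≫ incl := by
    let φ : T ⊗ I ⟶ G := (fst T I ≫ incl) * (snd T I ≫ j)⁻¹
    haveI : IsMonHom (fst T I) := inferInstance
    haveI : IsMonHom (fst T I ≫ incl) := inferInstance
    haveI : IsMonHom (snd T I ≫ j)⁻¹ := inferInstance
    haveI : IsMonHom φ := MaxAb.isMonHom_mul _ _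
    obtain ⟨N, hN, i, him, hic, -, hNk⟩ := AdjRep.exists_kernel φ
    haveI := him; haveI := hic
    haveI : LocallyOfFiniteType (T ⊗ I).hom := inferInstanceAs (LocallyOfFiniteType (pullback.fst T.hom I.hom ≫ T.hom))
    haveI : QuasiCompact (T ⊗ I).hom := inferInstanceAs (QuasiCompact (pullback.fst T.hom I.hom ≫ T.hom))
    haveI : LocallyOfFiniteType N.hom := by rw [← Over.w i]; infer_instance
    haveI : QuasiCompact N.hom := by rw [← Over.w i]; infer_instance
    let ψ : N ⟶ T := i ≫ fst T I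
    haveI : QuasiCompact ψ.left := by
      haveI : QuasiCompact (ψ.left ≫ T.hom) := by rw [Over.w]; infer_instance
      exact QuasiCompact.of_comp _ T.hom
    obtain ⟨P, hP, iP, g, hiP, hg, hgi, hPc, -, -, hgs⟩ := GrpField.SchImg.exists_image ψ
    haveI := hiP; haveI := hPc; haveI := hgs
    haveI := isIso_of_torsion_torus h.torus iP fun t htn => by
      obtain ⟨n, hn, hn1⟩ := htn
      obtain ⟨a, ha⟩ := ht (t ≫ incl) ⟨n, hn, by rw [← MonObj.pow_comp, hn1, MonObj.one_comp]⟩
      have hc : lift t a ≫ φ = 1 := by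
        simp only [φ, MonObj.comp_mul, GrpObj.comp_inv, lift_fst_assoc, lift_snd_assoc, ha, mul_inv_cancel]
      refine ⟨hNk.lift (lift t a) (toUnit _) (by rw [hc, Hom.one_def]) ≫ g, ?_⟩
      rw [Category.assoc, hgi, ← Category.assoc, hNk.lift_fst, lift_fst]
    haveI : Surjective ψ.left := by
      haveI : IsIso iP.left := inferInstanceAs (IsIso ((Over.forget _).map iP))
      rw [← hgi, Over.comp_left]; infer_instance
    intro t
    obtain ⟨n, rfl⟩ := exists_point_lift ψ t
    refine ⟨n ≫ i ≫ snd T I, ?_⟩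
    have hc : (n ≫ i) ≫ φ = 1 := by
      rw [Category.assoc, hNk.w, ← Hom.one_def, MonObj.comp_one]
    simp only [φ, MonObj.comp_mul, GrpObj.comp_inv, mul_inv_eq_one, Category.assoc] at hc
    simp only [ψ, Category.assoc, hc]
  -- `I` surjects onto the quotient
  haveI : Surjective (j ≫ proj).left := by
    haveI : IsSeparated A.hom := inferInstance
    haveI : QuasiCompact (j ≫ proj).left := by
      haveI : QuasiCompact ((j ≫ proj).left ≫ A.hom) := by rw [Over.w]; infer_instance
      exact QuasiCompact.of_comp _ A.hom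
    obtain ⟨C, hC, iC, g, hiC, hg, hgi, hCc, -, -, hgs⟩ := GrpField.SchImg.exists_image (j ≫ proj)
    haveI := hCc; haveI := hgs
    haveI : Surjective iC.left := by
      haveI := Chev.geometricallyIntegral_of_group (A := A)
      haveI : Fact (Nat.Prime 2) := ⟨Nat.prime_two⟩
      refine ⟨Set.range_eq_univ.1 (Set.eq_univ_of_univ_subset ?_)⟩
      rw [← (AVDeg.dense_torsion (A := A) (l := 2) (by norm_num)).closure_eq]
      refine closure_minimal ?_ iC.left.isClosedEmbedding.isClosed_range
      rintro _ ⟨a, ⟨n, hn⟩, rfl⟩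
      obtain ⟨g₀, rfl⟩ := exists_point_lift proj a
      obtain ⟨t, ht'⟩ := hx.kernel (g₀ ^ 2 ^ n) (by rw [MonObj.pow_comp, hn])
      obtain ⟨s, hs⟩ := exists_root_torus h.torus (show 0 < 2 ^ n by positivity) t
      obtain ⟨b, hb⟩ := ht (g₀ * (s ≫ incl)⁻¹) ⟨2 ^ n, by positivity, by
        rw [mul_pow, inv_pow, ← MonObj.pow_comp, hs, ht', mul_inv_cancel]⟩
      refine ⟨pt (b ≫ g), ?_⟩
      show pt (b ≫ g ≫ iC) = pt (g₀ ≫ proj)
      congr 1
      rw [hgi, ← Category.assoc, hb, MonObj.mul_comp, GrpObj.inv_comp, Category.assoc, hx.uv, MonObj.comp_one,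
        inv_one, _root_.mul_one]
    rw [← hgi, Over.comp_left]; infer_instance
  refine isIso_of_points j fun x => ?_
  obtain ⟨a, ha⟩ := exists_point_lift (j ≫ proj) (x ≫ proj)
  obtain ⟨t, ht'⟩ := hx.kernel (x * (a ≫ j)⁻¹) (by
    rw [MonObj.mul_comp, GrpObj.inv_comp, Category.assoc, ha, mul_inv_cancel])
  obtain ⟨b, hb⟩ := hT t
  exact ⟨b * a, by rw [MonObj.mul_comp, hb, ht', inv_mul_cancel_right]⟩

/-- A homomorphism killing the torsion points of a semi-abelian variety is trivial. -/
theorem eq_one_of_torsion (h : OneMot.IsSemiAbWith T G A incl proj) {H : Over (Spec (CommRingCat.of k))} [GrpObj H]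
    [LocallyOfFiniteType H.hom] (d : G ⟶ H) [IsMonHom d]
    (hd : ∀ g : one' k ⟶ G, (∃ n : ℕ, 0 < n ∧ g ^ n = 1) → g ≫ d = 1) : d = 1 := by
  obtain ⟨N, hN, i, him, hic, -, hNk⟩ := AdjRep.exists_kernel d
  haveI := him; haveI := hic
  haveI := isIso_of_torsion h i fun g hg =>
    ⟨hNk.lift g (toUnit _) (by rw [hd g hg, Hom.one_def]), hNk.lift_fst _ _ _⟩
  rw [← cancel_epi i, hNk.w, MonObj.comp_one, Hom.one_def]

end Groth.Agent.OneMotIso
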