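import Groth.Prelude.Def_OneMot
import Groth.Agent.MultDesc.Basic
import Groth.Agent.CentralExt.Main
import Groth.Agent.AlgSpLib.LocalTarget
import Groth.Agent.Chev.SemiAbelian
import Groth.Agent.Chev.TorsorMap

/-!
# Sheaf extensions of an abelian variety by a torus are semi-abelian varieties
-/

set_option autoImplicit false
set_option backward.isDefEq.respectTransparency false
set_option backward.isDefEq.respectTransparency.types false
set_option linter.style.haveILetI false
universe u

open CategoryTheory CategoryTheory.Limits MonoidalCategory CartesianMonoidalCategory MonObj AlgebraicGeometry Opposite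
open scoped CategoryTheory.Obj

noncomputable section

namespace Groth.Agent.OneMotIso

open CentralExt (mem inc PointExact HasLocSec)

variable {S : Scheme.{u}} {T G A : Over S} [GrpObj T] [IsCommMonObj T] [GrpObj G] [IsCommMonObj G]
  [GrpObj A] [IsCommMonObj A] {incl : T ⟶ G} {proj : G ⟶ A} [IsMonHom incl] [IsMonHom proj]

theorem exists_cover {X : Over S} {R : Sieve X} (hR : R ∈ QuotSh.J Scheme.fppfPrecoverage S X) :
    ∃ R' ∈ Scheme.fppfPrecoverage X.left, ∀ ⦃W : Scheme.{u}⦄ (f : W ⟶ X.left), R' f → R (inc X f) := by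
  have h : Sieve.overEquiv X R ∈ Scheme.fppfPrecoverage.toGrothendieck X.left := hR
  obtain ⟨R', hR', hle⟩ := Precoverage.mem_toGrothendieck_iff_of_isStableUnderComposition.1 h
  refine ⟨R', hR', fun W f hf => ?_⟩
  exact (Sieve.overEquiv_iff R f).1 (hle _ _ hf)

theorem pointExact (w : incl ≫ proj = 1) (hse : (CGrpSh.seq Scheme.fppfPrecoverage incl proj w).ShortExact) :
    PointExact incl proj := by
  haveI : Mono (CGrpSh.ptsMap Scheme.fppfPrecoverage incl) := hse.mono_f
  haveI : Epi (CGrpSh.ptsMap Scheme.fppfPrecoverage proj) := hse.epi_g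
  have inj : ∀ {X : Over S} (g g' : X ⟶ T), g ≫ incl = g' ≫ incl → g = g' := by
    intro X g g' h
    let F := sheafToPresheaf (QuotSh.J Scheme.fppfPrecoverage S) AddCommGrpCat.{u + 1} ⋙
      (evaluation _ _).obj (op X)
    haveI : Mono (F.map (CGrpSh.ptsMap Scheme.fppfPrecoverage incl)) := inferInstance
    have hinj := (AddCommGrpCat.mono_iff_injective (F.map (CGrpSh.ptsMap Scheme.fppfPrecoverage incl))).1 inferInstance
    have h' : (F.map (CGrpSh.ptsMap Scheme.fppfPrecoverage incl)) (ULift.up (Additive.ofMul g)) =
        (F.map (CGrpSh.ptsMap Scheme.fppfPrecoverage incl)) (ULift.up (Additive.ofMul g')) :=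
      ULift.ext _ _ (congrArg Additive.ofMul h)
    exact congrArg (fun s => (ULift.down s).toMul) (hinj h')
  refine ⟨inferInstance, inferInstance, w, fun {X} b hb => ?_, inj, fun X p => ?_⟩
  · obtain ⟨R, hR, hl⟩ := MultDesc.exists_lift_of_exact Scheme.fppfPrecoverage incl proj w hse.exact X b hb
    choose a ha using hl
    have hsh := (GrothendieckTopology.Subcanonical.isSheaf_of_isRepresentable
      (J := QuotSh.J Scheme.fppfPrecoverage S) (yoneda.obj T)) R hR
    let x : Presieve.FamilyOfElements (yoneda.obj T) R.arrows := fun V f hf => a f hf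
    have hx : x.Compatible := by
      intro V₁ V₂ Z g₁ g₂ f₁ f₂ h₁ h₂ hc
      refine inj _ _ ?_
      change (g₁ ≫ a f₁ h₁) ≫ incl = (g₂ ≫ a f₂ h₂) ≫ incl
      rw [Category.assoc, Category.assoc, ha, ha, reassoc_of% hc]
    refine ⟨hsh.amalgamate x hx, ?_⟩
    refine MultDesc.eq_of_cover (QuotSh.J Scheme.fppfPrecoverage S) hR fun V f hf => ?_
    rw [← Category.assoc, show f ≫ hsh.amalgamate x hx = a f hf from hsh.valid_glue hx f hf, ha]
  · obtain ⟨R, hR, hl⟩ := MultDesc.exists_lift_of_epi Scheme.fppfPrecoverage proj inferInstance X p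
    obtain ⟨R', hR', hle⟩ := exists_cover hR
    exact ⟨R', hR', fun W f hf => hl _ (hle f hf)⟩

omit [IsCommMonObj T] [IsCommMonObj G] [IsCommMonObj A] in
theorem isKernel (h : PointExact incl proj) : AlgGrp.IsKernel incl proj := by
  refine IsPullback.of_isLimit' ⟨by rw [h.uv, Hom.one_def]⟩ ?_
  have hl : ∀ s : PullbackCone proj η[A], ∃ g : s.pt ⟶ T, g ≫ incl = s.fst := fun s => h.kernel _ (by
    rw [s.condition, show s.snd = toUnit _ from Subsingleton.elim _ _]
    exact Hom.one_def.symm)
  refine PullbackCone.IsLimit.mk _ (fun s => (hl s).choose) (fun s => (hl s).choose_spec)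
    (fun s => Subsingleton.elim _ _) fun s m hm _ => h.inj _ _ (hm.trans (hl s).choose_spec.symm)

omit [IsCommMonObj T] [IsCommMonObj G] [IsCommMonObj A] in
/-- Over a member with a local section, the fibre is a product with the kernel. -/
theorem isPullback_of_section (h : PointExact incl proj) {M : Over S} (p : M ⟶ A) (e : M ⟶ G) (he : e ≫ proj = p) :
    IsPullback ((fst M T ≫ e) * (snd M T ≫ incl)) (fst M T) proj p := by
  have w : ((fst M T ≫ e) * (snd M T ≫ incl)) ≫ proj = fst M T ≫ p := by
    rw [MonObj.mul_comp, Category.assoc, Category.assoc, he, h.uv, MonObj.comp_one, _root_.mul_one]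
  refine IsPullback.of_isLimit' ⟨w⟩ ?_
  have hl : ∀ s : PullbackCone proj p, ∃ g : s.pt ⟶ T, g ≫ incl = (s.snd ≫ e)⁻¹ * s.fst := fun s => h.kernel _ (by
    rw [MonObj.mul_comp, GrpObj.inv_comp, Category.assoc, he, s.condition, inv_mul_cancel])
  refine PullbackCone.IsLimit.mk _ (fun s => lift s.snd (hl s).choose) (fun s => ?_) (fun s => by simp)
    fun s m hm1 hm2 => ?_
  · rw [MonObj.comp_mul, lift_fst_assoc, lift_snd_assoc, (hl s).choose_spec, mul_inv_cancel_left]
  · apply CartesianMonoidalCategory.hom_ext
    · rw [lift_fst, hm2]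
    · rw [lift_snd]
      refine h.inj _ _ ?_
      rw [(hl s).choose_spec, ← hm1, ← hm2, MonObj.comp_mul]
      simp only [Category.assoc, inv_mul_cancel_left]

omit [IsCommMonObj T] [IsCommMonObj G] [IsCommMonObj A] in
/-- Properties of the structure morphism of the kernel pass to the projection. -/
theorem prop_proj (h : PointExact incl proj) (P : MorphismProperty Scheme.{u}) [P.IsStableUnderBaseChange]
    [P.IsLocalAtTarget Scheme.fppfPrecoverage] (hT : P T.hom) : P proj.left := by
  obtain ⟨R, hR, hs⟩ := h.loc A (𝟙 A)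
  refine MorphismProperty.IsLocalAtTarget.of_forall_pullbackSnd hR fun {U} g _ hg => ?_
  obtain ⟨e, he⟩ := hs g hg
  rw [Category.comp_id] at he
  have hpb := (isPullback_of_section h (inc A g) e he).map (Over.forget S)
  have hfst : P (fst (mem A g) T).left := P.pullback_fst _ _ hT
  haveI : P.RespectsIso := inferInstance
  rw [← P.cancel_left_of_respectsIso hpb.isoPullback.hom]
  have hsnd := hpb.isoPullback_hom_snd
  exact hsnd.symm ▸ hfst

section Field

variable {k : Type u} [Field k] {T G A : Over (Spec (CommRingCat.of k))} [GrpObj T] [IsCommMonObj T] [GrpObj G]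
  [IsCommMonObj G] [GrpObj A] [IsCommMonObj A] {incl : T ⟶ G} {proj : G ⟶ A} [IsMonHom incl] [IsMonHom proj]

omit [GrpObj A] [IsCommMonObj A] in
theorem connectedSpace_abelian (hA : OneMot.IsAbelianSch A) : ConnectedSpace A.left := by
  have s : (Spec (CommRingCat.of k) : Scheme.{u}) := IsLocalRing.closedPoint k
  haveI := hA.connectedFibres s
  haveI : Surjective (A.hom.fiberι s) := ⟨Set.range_eq_univ.1 (by
    rw [Scheme.Hom.range_fiberι]
    exact Set.eq_univ_of_forall fun x => Subsingleton.elim _ _)⟩
  exact (A.hom.fiberι s).surjective.connectedSpace (A.hom.fiberι s).continuous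

/-- An extension in the sheaf sense over a field gives a semi-abelian variety. -/
structure SAData (incl : T ⟶ G) (proj : G ⟶ A) : Prop where
  exact : PointExact incl proj
  ker : AlgGrp.IsKernel incl proj
  closed : IsClosedImmersion incl.left
  surj : Surjective proj.left
  smoothProj : Smooth proj.left
  smooth : Smooth G.hom
  qc : QuasiCompact G.hom
  conn : ConnectedSpace G.left
  connA : ConnectedSpace A.left
  isSA : Chev.IsSA G

theorem saData (h : OneMot.IsSemiAbWith T G A incl proj) : SAData incl proj := by
  have hx := pointExact h.comp h.shortExact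
  haveI := h.abelian.smooth
  haveI := h.abelian.proper
  haveI := connectedSpace_abelian h.abelian
  haveI := Chev.smooth_of_isTorus h.torus
  haveI := Chev.connectedSpace_of_isTorus h.torus
  haveI := Chev.isAffine_of_isTorus h.torus
  haveI : QuasiCompact T.hom := inferInstance
  haveI : Surjective T.hom := by
    obtain ⟨t⟩ : Nonempty T.left := inferInstance
    exact ⟨fun x => ⟨t, Subsingleton.elim _ _⟩⟩
  have h1 : Smooth proj.left := prop_proj hx @Smooth (Chev.smooth_of_isTorus h.torus)
  have h2 : QuasiCompact proj.left := prop_proj hx @QuasiCompact inferInstance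
  have h3 : Surjective proj.left := prop_proj hx @Surjective inferInstance
  have hs : Smooth G.hom := by rw [← Over.w proj]; infer_instance
  have hq : QuasiCompact G.hom := by rw [← Over.w proj]; infer_instance
  have hk := isKernel hx
  haveI : IsClosedImmersion η[A].left := GrpField.isClosedImmersion_eta A
  have hc : IsClosedImmersion incl.left :=
    MorphismProperty.of_isPullback (P := @IsClosedImmersion) (hk.map (Over.forget _)).flip
      (inferInstanceAs (IsClosedImmersion η[A].left))
  have hsa : Chev.IsSA G := ⟨T, inferInstance, incl, A, inferInstance, proj, inferInstance, hc, h.torus,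
    inferInstance, h3, inferInstance, hk, h.abelian.proper, h.abelian.smooth, connectedSpace_abelian h.abelian⟩
  exact ⟨hx, hk, hc, h3, h1, hs, hq, hsa.smooth_connected.2, connectedSpace_abelian h.abelian, hsa⟩

end Field

end Groth.Agent.OneMotIso
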