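import Groth.Agent.OneMotIso.Torsion
import Groth.Agent.TwConst.BaseChange
import Groth.Agent.SekK.GenFibre

/-!
# Lattices over algebraically closed fields
-/

set_option autoImplicit false
set_option backward.isDefEq.respectTransparency false
set_option backward.isDefEq.respectTransparency.types false
set_option linter.style.haveILetI false
universe u

open CategoryTheory CategoryTheory.Limits MonoidalCategory CartesianMonoidalCategory MonObj AlgebraicGeometry
open TopologicalSpace
open scoped CategoryTheory.Obj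

noncomputable section

namespace Groth.Agent.OneMotIso

open AVDeg (one')

variable {k : Type u} [Field k] [IsAlgClosed k]

/-- An étale scheme over an algebraically closed field with a point has a rational point. -/
theorem exists_section {S' : Scheme.{u}} (f : S' ⟶ Spec (CommRingCat.of k)) [Etale f] [Nonempty S'] :
    ∃ σ : Spec (CommRingCat.of k) ⟶ S', σ ≫ f = 𝟙 _ := by
  haveI : JacobsonSpace S' := LocallyOfFiniteType.jacobsonSpace f
  obtain ⟨x, -, hx⟩ := nonempty_inter_closedPoints (Z := (Set.univ : Set S')) Set.univ_nonempty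
    isClosed_univ.isLocallyClosed
  exact ⟨_, pointOfClosedPoint_comp f x hx⟩

omit [IsAlgClosed k] in
theorem isTwConst_of_isLattice {L : Over (Spec (CommRingCat.of k))} [GrpObj L] (h : OneMot.IsLattice L) :
    TwC.IsTwConst TwC.Topology.etale L := by
  intro s
  obtain ⟨S', f, hf, hs, r, e, -⟩ := h s
  refine ⟨S', f, hf, hs, ULift.{u} (Multiplicative (Fin r → ℤ)), ⟨e ≪≫ ?_⟩⟩
  exact Over.isoMk (Sigma.whiskerEquiv Equiv.ulift.symm fun _ => Iso.refl S')
    (Sigma.hom_ext _ _ fun m => by simp [Sigma.whiskerEquiv])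

theorem exists_split_hom {L : Over (Spec (CommRingCat.of k))} [GrpObj L] (h : OneMot.IsLattice L) :
    Nonempty (TwConst.Split L.hom) := by
  obtain ⟨T, f, hf, ⟨t, -⟩, ⟨s⟩⟩ :=
    TwConst.exists_split L (isTwConst_of_isLattice h) (IsLocalRing.closedPoint k)
  haveI := hf
  haveI : Nonempty T := ⟨t⟩
  obtain ⟨σ, hσ⟩ := exists_section f
  refine s.nonempty_of_isPullback (a := pullback.lift (𝟙 L.left) (L.hom ≫ σ)
    (by rw [Category.assoc, hσ, Category.id_comp, Category.comp_id])) (b := σ) ?_
  refine IsPullback.of_right (h₁₂ := pullback.fst L.hom f) (v₁₃ := L.hom) (h₂₂ := f) ?_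
    (pullback.lift_snd _ _ _) (IsPullback.of_hasPullback L.hom f)
  rw [pullback.lift_fst, hσ]
  exact IsPullback.of_horiz_isIso ⟨by simp⟩

theorem isEtale_lattice {L : Over (Spec (CommRingCat.of k))} [GrpObj L] (h : OneMot.IsLattice L) :
    Etale L.hom ∧ IsSeparated L.hom ∧ IsReduced L.left := by
  have h1 := TwConst.etale L (isTwConst_of_isLattice h)
  exact ⟨h1, TwConst.isSeparated L (isTwConst_of_isLattice h), Chev.isReduced_of_smooth' L⟩

/-- A map from a lattice is given by its values on rational points. -/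
theorem exists_hom_of_points {L Y : Over (Spec (CommRingCat.of k))} [GrpObj L] (h : OneMot.IsLattice L)
    (φ : (one' k ⟶ L) → (one' k ⟶ Y)) : ∃ g : L ⟶ Y, ∀ a : one' k ⟶ L, a ≫ g = φ a := by
  obtain ⟨s⟩ := exists_split_hom h
  haveI : ∀ i, IsOpenImmersion (s.σ i) := s.isOpen
  haveI : IsOpenImmersion (Sigma.desc s.σ) := isOpenImmersion_sigmaDesc _ s.σ fun i j hij => by
    simpa [Function.onFun, Set.disjoint_iff_inter_eq_empty] using
      Set.disjoint_iff_inter_eq_empty.1 (s.disj i j hij)
  haveI : Surjective (Sigma.desc s.σ) := ⟨fun z => by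
    obtain ⟨i, t, ht⟩ := s.cover z
    refine ⟨Sigma.ι (fun _ : s.I => Spec (CommRingCat.of k)) i t, ?_⟩
    rw [← Scheme.Hom.comp_apply, Sigma.ι_desc]
    exact ht⟩
  haveI : IsIso (Sigma.desc s.σ) :=
    (isIso_iff_isOpenImmersion_and_surjective _).2 ⟨inferInstance, inferInstance⟩
  let a : s.I → (one' k ⟶ L) := fun i => Over.homMk (s.σ i) (s.comp i)
  let g₀ : L.left ⟶ Y.left := inv (Sigma.desc s.σ) ≫ Sigma.desc fun i => (φ (a i)).left
  have hg₀ : ∀ i, s.σ i ≫ g₀ = (φ (a i)).left := fun i => by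
    conv_lhs => rw [← Sigma.ι_desc s.σ i, Category.assoc, IsIso.hom_inv_id_assoc]
    rw [Sigma.ι_desc]
  refine ⟨Over.homMk g₀ ?_, fun b => ?_⟩
  · rw [← cancel_epi (Sigma.desc s.σ)]
    refine Sigma.hom_ext _ _ fun i => ?_
    rw [Sigma.ι_desc_assoc, Sigma.ι_desc_assoc, reassoc_of% (hg₀ i), Over.w, s.comp i]
    rfl
  · haveI := (isEtale_lattice h).1
    obtain ⟨i, t, ht⟩ := s.cover (GrpField.RatClosure.pt b)
    obtain rfl : b = a i := pt_inj (X := L) (by rw [← ht, Subsingleton.elim t (IsLocalRing.closedPoint k)]; rfl)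
    exact Over.OverMorphism.ext (hg₀ i)

/-- A homomorphism of lattices bijective on rational points is an isomorphism. -/
theorem isIso_lattice {L L' : Over (Spec (CommRingCat.of k))} [GrpObj L] [GrpObj L'] (h : OneMot.IsLattice L)
    (h' : OneMot.IsLattice L') (f : L ⟶ L')
    (hb : Function.Bijective fun a : one' k ⟶ L => a ≫ f) : IsIso f := by
  obtain ⟨g, hg⟩ := exists_hom_of_points h' (Y := L) fun b => (Equiv.ofBijective _ hb).symm b
  obtain ⟨h1, h2, h3⟩ := isEtale_lattice h
  obtain ⟨h1', h2', h3'⟩ := isEtale_lattice h'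
  haveI := h1; haveI := h2; haveI := h3; haveI := h1'; haveI := h2'; haveI := h3'
  refine ⟨g, hom_ext_points fun a => hb.1 ?_, hom_ext_points fun b => ?_⟩
  · have := hg (a ≫ f)
    show (a ≫ f ≫ g) ≫ f = (a ≫ 𝟙 L) ≫ f
    rw [← Category.assoc a f g, this, Category.comp_id]
    exact (Equiv.ofBijective _ hb).apply_symm_apply _
  · rw [← Category.assoc, hg, Category.comp_id]
    exact (Equiv.ofBijective _ hb).apply_symm_apply b

/-- The rational points of a lattice form a free abelian group of finite rank. -/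
theorem exists_points_equiv {L : Over (Spec (CommRingCat.of k))} [GrpObj L] [IsCommMonObj L]
    (h : OneMot.IsLattice L) :
    ∃ r : ℕ, Nonempty (Additive (one' k ⟶ L) ≃+ (Fin r → ℤ)) := by
  obtain ⟨S', f, hf, ⟨t, -⟩, r, e, he⟩ := h (IsLocalRing.closedPoint k)
  haveI := hf
  haveI : Nonempty S' := ⟨t⟩
  obtain ⟨σ, hσ⟩ := exists_section f
  let M := Multiplicative (Fin r → ℤ)
  let U : Over S' := Over.mk σ
  let ι₀ : one' k ≅ (Over.map f).obj U := Over.isoMk (Iso.refl _) (by
    show 𝟙 _ ≫ σ ≫ f = 𝟙 _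
    rw [Category.id_comp, hσ])
  let A : (U ⟶ Red.bc f L) ≃ (one' k ⟶ L) :=
    (((Over.mapPullbackAdj f).homEquiv U L).symm).trans (Iso.homCongr ι₀.symm (Iso.refl L))
  have hA : ∀ a b, A (a * b) = A a * A b := fun a b => by
    simp only [A, Equiv.trans_apply, Iso.homCongr_apply, Iso.refl_hom, Category.comp_id, Iso.symm_inv,
      ← MonObj.comp_mul]
    exact congrArg (ι₀.hom ≫ ·) (SekK.toBase_mul a b)
  let B : M → (U ⟶ Red.bc f L) := fun m => toUnit U ≫ TwC.pt S' M m ≫ e.inv
  have hB : ∀ m n, B (m * n) = B m * B n := fun m n => by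
    show toUnit U ≫ (TwC.pt S' M (m * n) ≫ e.inv) = toUnit U ≫ (TwC.pt S' M m ≫ e.inv) * toUnit U ≫ (TwC.pt S' M n ≫ e.inv)
    rw [← he m n, MonObj.comp_mul]
  have hBb : Function.Bijective B := by
    refine ⟨fun m n hmn => ?_, fun a => ?_⟩
    · have h1 : (toUnit U ≫ TwC.pt S' M m).left = (toUnit U ≫ TwC.pt S' M n).left := by
        refine congrArg CommaMorphism.left ((cancel_mono e.inv).1 ?_)
        simpa [B] using hmn
      have h2 := congrArg (fun φ : U.left ⟶ _ => φ (IsLocalRing.closedPoint k)) h1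
      simp only [Over.comp_left, Scheme.Hom.comp_apply] at h2
      by_contra hne
      have hd := disjoint_opensRange_sigmaι (fun _ : M => S') m n hne
      refine Set.disjoint_left.1 (TopologicalSpace.Opens.coe_disjoint.2 hd)
        (show (Sigma.ι (fun _ : M => S') m) ((toUnit U).left (IsLocalRing.closedPoint k)) ∈
          ((Sigma.ι (fun _ : M => S') m).opensRange : Set _) from ⟨_, rfl⟩) ?_
      exact ⟨_, h2.symm⟩
    · let b : U ⟶ TwC.const S' M := a ≫ e.hom
      obtain ⟨m, y, hy⟩ :=
        (sigmaOpenCover (fun _ : M => S')).exists_eq (b.left (IsLocalRing.closedPoint k))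
      have hr : Set.range b.left ⊆ Set.range (Sigma.ι (fun _ : M => S') m) := by
        rintro _ ⟨z, rfl⟩
        rw [show z = IsLocalRing.closedPoint k from Subsingleton.elim (α := PrimeSpectrum k) _ _, ← hy]
        exact ⟨y, rfl⟩
      have hl : IsOpenImmersion.lift (Sigma.ι (fun _ : M => S') m) b.left hr = σ := by
        have h1 := IsOpenImmersion.lift_fac (Sigma.ι (fun _ : M => S') m) b.left hr
        have h2 : b.left ≫ Sigma.desc (fun _ : M => 𝟙 S') = σ := Over.w b
        refine Eq.trans ?_ h2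
        conv_rhs => rw [← h1, Category.assoc, Sigma.ι_desc, Category.comp_id]
      refine ⟨m, ?_⟩
      rw [← cancel_mono e.hom]
      refine Over.OverMorphism.ext ?_
      have h1 := IsOpenImmersion.lift_fac (Sigma.ι (fun _ : M => S') m) b.left hr
      rw [hl] at h1
      show ((toUnit U ≫ TwC.pt S' M m ≫ e.inv) ≫ e.hom).left = b.left
      rw [Category.assoc, Category.assoc, e.inv_hom_id, Category.comp_id, ← h1]
      rfl
  let E : M ≃* (one' k ⟶ L) :=
    MulEquiv.mk' ((Equiv.ofBijective B hBb).trans A) fun m n => by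
      show A (B (m * n)) = _
      rw [hB, hA]
      rfl
  exact ⟨r, ⟨(MulEquiv.toAdditive E).symm.trans (AddEquiv.additiveMultiplicative _)⟩⟩

end Groth.Agent.OneMotIso
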