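import Groth.Agent.OneMotIso.Lattice
import Groth.Agent.Chev.TorsionFinite
import Groth.Agent.Chev.SADesc
import Groth.Agent.MTBridge.TrivialSub

/-!
# Torsion realisations detect morphisms and isomorphisms of one-motives
-/

set_option autoImplicit false
set_option backward.isDefEq.respectTransparency false
set_option backward.isDefEq.respectTransparency.types false
set_option linter.style.haveILetI false
set_option maxHeartbeats 1000000
universe u

open CategoryTheory CategoryTheory.Limits MonoidalCategory CartesianMonoidalCategory MonObj AlgebraicGeometry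
open scoped CategoryTheory.Obj

noncomputable section

namespace Groth.Agent.OneMotIso

open AVDeg (one' bcK specMap)

variable {k : Type u} [Field k] {M N : OneMot.Motive (Spec (CommRingCat.of k))} {m : ℕ}

/-- The admissible pair of a point of `L` and one of `G`. -/
def mkPair (x : one' k ⟶ M.L) (g : one' k ⟶ M.G) (h : (x ≫ M.u) * g ^ m = 1) :
    OneMot.tzPairs M m (one' k) :=
  ⟨(Additive.ofMul x, Additive.ofMul g), eq_neg_of_add_eq_zero_left (congrArg Additive.ofMul h)⟩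

theorem exists_mkPair (p : OneMot.tzPairs M m (one' k)) :
    ∃ (x : one' k ⟶ M.L) (g : one' k ⟶ M.G) (h : (x ≫ M.u) * g ^ m = 1), mkPair x g h = p := by
  obtain ⟨⟨x, g⟩, hp⟩ := p
  have hp' : Additive.ofMul (x.toMul ≫ M.u) = -(m • g) := hp
  exact ⟨x.toMul, g.toMul, congrArg Additive.toMul (add_eq_zero_iff_eq_neg.2 hp'), rfl⟩

theorem mem_rel_iff {x : one' k ⟶ M.L} {g : one' k ⟶ M.G} (h : (x ≫ M.u) * g ^ m = 1) :
    mkPair x g h ∈ OneMot.tzRel M m (one' k) ↔ ∃ z : one' k ⟶ M.L, z ^ m = x ∧ (z ≫ M.u)⁻¹ = g := by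
  constructor
  · rintro ⟨z, hz⟩
    exact ⟨z.toMul, congrArg (fun p => (Prod.fst p).toMul) hz, congrArg (fun p => (Prod.snd p).toMul) hz⟩
  · rintro ⟨z, rfl, rfl⟩
    exact ⟨Additive.ofMul z, rfl⟩

theorem map_pair_mem {f : OneMot.Motive.Hom M N} {x : one' k ⟶ M.L} {g : one' k ⟶ M.G}
    (h : (x ≫ M.u) * g ^ m = 1) : ((x ≫ f.fL) ≫ N.u) * (g ≫ f.fG) ^ m = 1 := by
  rw [← MonObj.pow_comp, Category.assoc, ← f.comm, ← Category.assoc, ← MonObj.mul_comp, h, MonObj.one_comp]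

theorem tzMap_mk (f : OneMot.Motive.Hom M N) {x : one' k ⟶ M.L} {g : one' k ⟶ M.G} (h : (x ≫ M.u) * g ^ m = 1) :
    OneMot.tzMap m (one' k) f (mkPair x g h : OneMot.tzPairs M m (one' k)) =
      ((mkPair (x ≫ f.fL) (g ≫ f.fG) (map_pair_mem h) : OneMot.tzPairs N m (one' k)) :
        OneMot.TZMod N m (one' k)) := rfl

theorem mk_eq_mk_iff {x x' : one' k ⟶ M.L} {g g' : one' k ⟶ M.G} (h : (x ≫ M.u) * g ^ m = 1)
    (h' : (x' ≫ M.u) * g' ^ m = 1) :
    ((mkPair x g h : OneMot.tzPairs M m (one' k)) : OneMot.TZMod M m (one' k)) =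
      (mkPair x' g' h' : OneMot.tzPairs M m (one' k)) ↔
      ∃ z : one' k ⟶ M.L, z ^ m = x * x'⁻¹ ∧ (z ≫ M.u)⁻¹ = g * g'⁻¹ := by
  rw [QuotientAddGroup.eq_iff_sub_mem]
  have h'' : ((x * x'⁻¹) ≫ M.u) * (g * g'⁻¹) ^ m = 1 := by
    rw [MonObj.mul_comp, GrpObj.inv_comp, mul_pow, inv_pow, _root_.mul_mul_mul_comm, h, ← mul_inv, h', inv_one,
      _root_.one_mul]
  have e : mkPair x g h - mkPair x' g' h' = mkPair (x * x'⁻¹) (g * g'⁻¹) h'' :=
    Subtype.ext (Prod.ext (sub_eq_add_neg (Additive.ofMul x) _) (sub_eq_add_neg (Additive.ofMul g) _))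
  rw [e, mem_rel_iff]

theorem mk_eq_zero_iff {x : one' k ⟶ M.L} {g : one' k ⟶ M.G} (h : (x ≫ M.u) * g ^ m = 1) :
    ((mkPair x g h : OneMot.tzPairs M m (one' k)) : OneMot.TZMod M m (one' k)) = 0 ↔
      ∃ z : one' k ⟶ M.L, z ^ m = x ∧ (z ≫ M.u)⁻¹ = g := by
  rw [QuotientAddGroup.eq_zero_iff, mem_rel_iff]

variable [IsAlgClosed k] [CharZero k]

omit [CharZero k] in
theorem eq_one_of_pow_lattice (M : OneMot.Motive (Spec (CommRingCat.of k))) {z : one' k ⟶ M.L}
    (hm : 1 ≤ m) (h : z ^ m = 1) : z = 1 := by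
  obtain ⟨r, ⟨e⟩⟩ := exists_points_equiv M.lattice
  have h1 : m • e (Additive.ofMul z) = 0 := by rw [← map_nsmul, ← ofMul_pow, h, ofMul_one, map_zero]
  have h2 : e (Additive.ofMul z) = 0 := funext fun i => by
    have h3 := congrFun h1 i
    rw [Pi.smul_apply, nsmul_eq_mul, Pi.zero_apply, mul_eq_zero] at h3
    exact h3.resolve_left (by exact_mod_cast (by omega : m ≠ 0))
  exact congrArg Additive.toMul (e.injective (h2.trans (map_zero e).symm))

omit [CharZero k] in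
theorem fg_lattice (M : OneMot.Motive (Spec (CommRingCat.of k))) : Group.FG (one' k ⟶ M.L) := by
  obtain ⟨r, ⟨e⟩⟩ := exists_points_equiv M.lattice
  haveI : AddGroup.FG (Additive (one' k ⟶ M.L)) :=
    AddGroup.fg_of_surjective (f := e.symm.toAddMonoidHom) e.symm.surjective
  exact GroupFG.iff_add_fg.2 inferInstance

omit [CharZero k] in
theorem exists_root (M : OneMot.Motive (Spec (CommRingCat.of k))) (hm : 1 ≤ m) (a : one' k ⟶ M.G) :
    ∃ g : one' k ⟶ M.G, g ^ m = a := by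
  obtain ⟨hx, hk, hc, hsj, hsm, hGs, hGq, hGc, hAc, hsa⟩ := saData M.semiAb
  haveI := hGs; haveI := hGq; haveI := hGc
  haveI := hsa.surjective_pow (show 0 < m from hm)
  obtain ⟨g, hg⟩ := exists_point_lift (𝟙 M.G ^ m) a
  exact ⟨g, by rw [← hg, MonObj.comp_pow, Category.comp_id]⟩

theorem locallyOfFiniteType_G (M : OneMot.Motive (Spec (CommRingCat.of k))) : LocallyOfFiniteType M.G.hom :=
  haveI := (saData M.semiAb).smooth
  inferInstance

/-- Torsion realisations detect equality of morphisms of one-motives. -/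
theorem hom_eq (f g : OneMot.Motive.Hom M N)
    (h : ∀ m : ℕ, 1 ≤ m → OneMot.tzMap m (one' k) f = OneMot.tzMap m (one' k) g) : f = g := by
  have key : ∀ (m : ℕ), 1 ≤ m → ∀ (x : one' k ⟶ M.L) (a : one' k ⟶ M.G), (x ≫ M.u) * a ^ m = 1 →
      ∃ z : one' k ⟶ N.L, z ^ m = (x ≫ f.fL) * (x ≫ g.fL)⁻¹ ∧ (z ≫ N.u)⁻¹ = (a ≫ f.fG) * (a ≫ g.fG)⁻¹ := by
    intro m hm x a hxa
    refine (mk_eq_mk_iff (map_pair_mem hxa) (map_pair_mem hxa)).1 ?_
    rw [← tzMap_mk f hxa, ← tzMap_mk g hxa, h m hm]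
  haveI := locallyOfFiniteType_G N
  have hG : f.fG = g.fG := by
    let d : M.G ⟶ N.G := f.fG * g.fG⁻¹
    haveI : IsMonHom d := MaxAb.isMonHom_mul _ _
    refine eq_of_div_eq_one ?_
    rw [div_eq_mul_inv]
    refine eq_one_of_torsion M.semiAb d fun a ⟨m, hm, ha⟩ => ?_
    obtain ⟨z, hz, hzu⟩ := key m hm 1 a (by rw [MonObj.one_comp, ha, _root_.mul_one])
    rw [MonObj.one_comp, MonObj.one_comp, inv_one, _root_.mul_one] at hz
    rw [eq_one_of_pow_lattice N hm hz, MonObj.one_comp, inv_one] at hzu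
    rw [MonObj.comp_mul, GrpObj.comp_inv, ← hzu]
  obtain ⟨h1, h2, h3⟩ := isEtale_lattice M.lattice
  obtain ⟨h1', h2', h3'⟩ := isEtale_lattice N.lattice
  haveI := h1; haveI := h3; haveI := h1'; haveI := h2'
  refine OneMot.Motive.Hom.ext' (hom_ext_points fun x => ?_) hG
  obtain ⟨r, ⟨e⟩⟩ := exists_points_equiv N.lattice
  refine eq_of_div_eq_one ?_
  rw [div_eq_mul_inv]
  refine congrArg Additive.toMul (a₁ := Additive.ofMul ((x ≫ f.fL) * (x ≫ g.fL)⁻¹)) (a₂ := 0) (e.injective ?_)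
  rw [map_zero]
  funext i
  by_contra hne
  obtain ⟨m, hm⟩ : ∃ m : ℕ, m = (e (Additive.ofMul ((x ≫ f.fL) * (x ≫ g.fL)⁻¹)) i).natAbs + 1 := ⟨_, rfl⟩
  obtain ⟨a, ha⟩ := exists_root M (show 1 ≤ m by omega) (x ≫ M.u)⁻¹
  obtain ⟨z, hz, -⟩ := key m (by omega) x a (by rw [ha, mul_inv_cancel])
  have h4 : e (Additive.ofMul ((x ≫ f.fL) * (x ≫ g.fL)⁻¹)) i = (m : ℤ) * e (Additive.ofMul z) i := by
    rw [← hz, ofMul_pow, map_nsmul, Pi.smul_apply, nsmul_eq_mul]
  refine hne (Int.eq_zero_of_dvd_of_natAbs_lt_natAbs ⟨_, h4⟩ ?_)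
  omega

variable (f : OneMot.Motive.Hom M N)

/-- Torsion points killed by `f` are trivial. -/
theorem torsion_inj (h : ∀ m : ℕ, 1 ≤ m → Function.Bijective (OneMot.tzMap m (one' k) f)) (g : one' k ⟶ M.G)
    (hm : 1 ≤ m) (hg : g ^ m = 1) (hf : g ≫ f.fG = 1) : g = 1 := by
  have hp : ((1 : one' k ⟶ M.L) ≫ M.u) * g ^ m = 1 := by rw [MonObj.one_comp, hg, _root_.mul_one]
  obtain ⟨z, hz, rfl⟩ := (mk_eq_zero_iff hp).1 <| (h m hm).1 <| by
    rw [map_zero, tzMap_mk, mk_eq_zero_iff]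
    exact ⟨1, by rw [one_pow, MonObj.one_comp], by rw [MonObj.one_comp, inv_one, hf]⟩
  rw [eq_one_of_pow_lattice M hm hz, MonObj.one_comp, inv_one]

/-- If the realisations are bijective, `f` is a monomorphism on the semi-abelian parts. -/
theorem mono_fG (h : ∀ m : ℕ, 1 ≤ m → Function.Bijective (OneMot.tzMap m (one' k) f)) : Mono f.fG := by
  obtain ⟨hx, hk, hc, hsj, hsm, hGs, hGq, hGc, hAc, hsa⟩ := saData M.semiAb
  haveI := hGs; haveI := hGq; haveI := hGc
  haveI := locallyOfFiniteType_G N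
  obtain ⟨H, hH, j, hjm, hjc, -, hker⟩ := AdjRep.exists_kernel f.fG
  haveI := hjm; haveI := hjc
  haveI : Mono j := GrpField.SchImg.mono_of_isClosedImmersion j
  haveI : IsSeparated M.G.hom := GrpField.isSeparated_hom M.G
  haveI : LocallyOfFiniteType H.hom := by rw [← Over.w j]; infer_instance
  haveI : IsSeparated H.hom := by rw [← Over.w j]; infer_instance
  have hjf : j ≫ f.fG = 1 := by rw [hker.w, Hom.one_def]
  have hkill : ∀ (a : one' k ⟶ H) (m : ℕ), 1 ≤ m → a ^ m = 1 → a = 1 := fun a m hm ha => by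
    rw [← cancel_mono j, MonObj.one_comp]
    exact torsion_inj f h _ hm (by rw [← MonObj.pow_comp, ha, MonObj.one_comp])
      (by rw [Category.assoc, hjf, MonObj.comp_one])
  have htors : ∀ (Y : Over (Spec (CommRingCat.of k))) (a : Y ⟶ H), a ^ 2 = 1 → a = 1 := by
    intro Y a ha
    haveI : IsMonHom (j ≫ (𝟙 M.G ^ 2)) := by haveI := Chev.isMonHom_pow M.G 2; infer_instance
    obtain ⟨K, hK, i, him, hic, -, hiK⟩ := AdjRep.exists_kernel (j ≫ (𝟙 M.G ^ 2))
    haveI := him; haveI := hic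
    haveI : LocallyOfFiniteType K.hom := by rw [← Over.w i]; infer_instance
    haveI := isReduced_grp K
    have hsq : ∀ {Z : Over (Spec (CommRingCat.of k))} (b : Z ⟶ H),
        b ≫ j ≫ (𝟙 M.G ^ 2) = (b ^ 2) ≫ j := fun b => by
      rw [MonObj.pow_comp, MonObj.comp_pow, MonObj.comp_pow, Category.comp_id]
    have hi1 : i = 1 := hom_ext_points fun b => by
      rw [MonObj.comp_one]
      refine hkill _ 2 (by norm_num) ((cancel_mono j).1 ?_)
      rw [← hsq, Category.assoc, hiK.w, MonObj.one_comp, ← Category.assoc,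
        show b ≫ toUnit K = toUnit _ from Subsingleton.elim _ _, ← Hom.one_def]
    have := hiK.lift_fst a (toUnit Y) (by rw [hsq, ha, MonObj.one_comp, Hom.one_def])
    exact this.symm.trans ((congrArg (fun t => _ ≫ t) hi1).trans (MonObj.comp_one _))
  haveI : IsFinite H.hom :=
    Chev.isFinite_of_torsion_trivial (hsa.bc (specMap k (AlgebraicClosure k))) j one_lt_two htors
  haveI : Finite H.left := Set.finite_univ_iff.1 (by
    simpa using IsFinite.finite_preimage_singleton H.hom (IsLocalRing.closedPoint k) |>.subset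
      (fun (x : H.left) _ => Set.mem_preimage.2 (Subsingleton.elim (α := PrimeSpectrum k) _ _)))
  haveI : Finite (one' k ⟶ H) := Finite.of_injective GrpField.RatClosure.pt fun a b hab => pt_inj hab
  haveI := isReduced_grp H
  have hj1 : j = 1 := hom_ext_points fun a => by
    rw [MonObj.comp_one]
    have := hkill a (Nat.card (one' k ⟶ H)) Nat.card_pos (pow_card_eq_one')
    rw [this, MonObj.one_comp]
  refine ⟨fun {Z} a b hab => ?_⟩
  have h1 := hker.lift_fst (a * b⁻¹) (toUnit Z)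
    (by rw [MonObj.mul_comp, GrpObj.inv_comp, hab, mul_inv_cancel, Hom.one_def])
  exact mul_inv_eq_one.1 (h1.symm.trans ((congrArg (fun t => _ ≫ t) hj1).trans (MonObj.comp_one _)))

/-- Torsion realisations detect isomorphisms of one-motives. -/
theorem isIso (h : ∀ m : ℕ, 1 ≤ m → Function.Bijective (OneMot.tzMap m (one' k) f)) : f.IsIso := by
  have hmono := mono_fG f h
  have hinj : Function.Injective fun x : one' k ⟶ M.L => x ≫ f.fL := by
    intro x x' hxx'
    rw [← mul_inv_eq_one]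
    have hd : (x * x'⁻¹) ≫ f.fL = 1 := by
      rw [MonObj.mul_comp, GrpObj.inv_comp]
      exact mul_inv_eq_one.2 hxx'
    generalize x * x'⁻¹ = d at hd ⊢
    have hu : d ≫ M.u = 1 := by
      rw [← cancel_mono f.fG, MonObj.one_comp, Category.assoc, f.comm, ← Category.assoc, hd, MonObj.one_comp]
    obtain ⟨r, ⟨e⟩⟩ := exists_points_equiv M.lattice
    refine congrArg Additive.toMul (a₁ := Additive.ofMul d) (a₂ := 0) (e.injective ?_)
    rw [map_zero]
    funext i
    by_contra hne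
    obtain ⟨n, hn⟩ : ∃ n : ℕ, n = (e (Additive.ofMul d) i).natAbs + 1 := ⟨_, rfl⟩
    have hp : (d ≫ M.u) * (1 : one' k ⟶ M.G) ^ n = 1 := by rw [hu, one_pow, _root_.mul_one]
    obtain ⟨z, hz, -⟩ := (mk_eq_zero_iff hp).1 <| (h n (by omega)).1 <| by
      rw [map_zero, tzMap_mk, mk_eq_zero_iff]
      exact ⟨1, by rw [one_pow, hd], by rw [MonObj.one_comp, MonObj.one_comp, inv_one]⟩
    have h4 : e (Additive.ofMul d) i = (n : ℤ) * e (Additive.ofMul z) i := by
      rw [← hz, ofMul_pow, map_nsmul, Pi.smul_apply, nsmul_eq_mul]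
    refine hne (Int.eq_zero_of_dvd_of_natAbs_lt_natAbs ⟨_, h4⟩ ?_)
    omega
  let φ : (one' k ⟶ M.L) →* (one' k ⟶ N.L) :=
    MonoidHom.mk' (fun x => x ≫ f.fL) fun a b => MonObj.mul_comp a b f.fL
  have hsurj : Function.Surjective φ := by
    rw [← MonoidHom.range_eq_top]
    haveI := fg_lattice N
    refine eq_top_iff.2 fun y _ => ?_
    have hq := MTBridge.eq_one_of_divisible (P := (one' k ⟶ N.L) ⧸ φ.range) (fun n hn q => by
      induction q using QuotientGroup.induction_on with | _ y => ?_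
      obtain ⟨a, ha⟩ := exists_root N (show 1 ≤ n from hn) (y ≫ N.u)⁻¹
      have hp : (y ≫ N.u) * a ^ n = 1 := by rw [ha, mul_inv_cancel]
      obtain ⟨q', hq'⟩ := (h n hn).2 (mkPair y a hp : OneMot.tzPairs N n (one' k))
      induction q' using QuotientAddGroup.induction_on with | _ p => ?_
      obtain ⟨x, b, hxb, rfl⟩ := exists_mkPair p
      rw [tzMap_mk, mk_eq_mk_iff] at hq'
      obtain ⟨z, hz, -⟩ := hq'
      refine ⟨((z⁻¹ : one' k ⟶ N.L) : (one' k ⟶ N.L) ⧸ φ.range), ?_⟩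
      rw [← QuotientGroup.mk_pow, QuotientGroup.eq_iff_div_mem]
      refine ⟨x⁻¹, ?_⟩
      show x⁻¹ ≫ f.fL = _
      rw [inv_pow, hz, GrpObj.inv_comp, div_eq_mul_inv, mul_inv, inv_inv, _root_.mul_assoc, mul_inv_cancel,
        _root_.mul_one]) (y : (one' k ⟶ N.L) ⧸ φ.range)
    exact (QuotientGroup.eq_one_iff y).1 hq
  haveI hL : IsIso f.fL := isIso_lattice M.lattice N.lattice f.fL ⟨hinj, hsurj⟩
  obtain ⟨hx, hk, hc, hsj, hsm, hGs, hGq, hGc, hAc, hsa⟩ := saData M.semiAb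
  haveI := hGs; haveI := hGq
  haveI := locallyOfFiniteType_G N
  haveI : IsSeparated N.G.hom := GrpField.isSeparated_hom N.G
  haveI : QuasiCompact f.fG.left := by
    haveI : QuasiCompact (f.fG.left ≫ N.G.hom) := by rw [Over.w]; infer_instance
    exact QuasiCompact.of_comp _ N.G.hom
  haveI : IsClosedImmersion f.fG.left := GrpField.isClosedImmersion_of_mono f.fG
  refine ⟨hL, isIso_of_torsion N.semiAb f.fG fun g' ⟨n, hn, hg'⟩ => ?_⟩
  have hp : ((1 : one' k ⟶ N.L) ≫ N.u) * g' ^ n = 1 := by rw [MonObj.one_comp, hg', _root_.mul_one]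
  obtain ⟨q', hq'⟩ := (h n hn).2 (mkPair 1 g' hp : OneMot.tzPairs N n (one' k))
  induction q' using QuotientAddGroup.induction_on with | _ p => ?_
  obtain ⟨x, b, hxb, rfl⟩ := exists_mkPair p
  rw [tzMap_mk, mk_eq_mk_iff] at hq'
  obtain ⟨z, hz, hzu⟩ := hq'
  obtain ⟨z₀, rfl⟩ := hsurj z
  refine ⟨b * (z₀ ≫ M.u), ?_⟩
  have e1 : (z₀ ≫ M.u) ≫ f.fG = (φ z₀) ≫ N.u := by
    show (z₀ ≫ M.u) ≫ f.fG = (z₀ ≫ f.fL) ≫ N.u
    rw [Category.assoc, f.comm, Category.assoc]
  rw [MonObj.mul_comp, e1, inv_eq_iff_eq_inv.1 hzu, mul_inv, inv_inv, ← _root_.mul_assoc, mul_inv_cancel,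
    _root_.one_mul]

end Groth.Agent.OneMotIso
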